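import Groth.Agent.Lib.Helper25.TrivBC.PsiNat
import Groth.Agent.Lib.Helper25.KFlatQis

/-!
# Balancing: base change of a restricted K-flat complex under Tor-independence
-/

set_option autoImplicit false
universe u

namespace Groth.Agent.Lib.Helper25.TrivBC

open CategoryTheory CategoryTheory.Limits MonoidalCategory HomologicalComplex CochainComplex
open Groth.Agent.Lib.Helper25.TensorCx Groth.Agent.Lib.Helper25.KFlat

variable {R A R' : Type u} [CommRing R] [CommRing A] [CommRing R'] (φ : R →+* A) (ρ : R →+* R')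

/-- Let `P` be K-flat over `A`, `π : G ⟶ P|_R` a K-flat resolution over `R`, and `ε : F ⟶ R'` a
K-flat resolution of `R'` over `R` whose base change to `A` is still a quasi-isomorphism
(Tor-independence of `A` and `R'`).  Then `G ⊗_R R' ⟶ P|_R ⊗_R R'` is a quasi-isomorphism. -/
theorem quasiIso_ext_map_of_balance (P : Cx A) (hP : IsKFlat P)
    {G : Cx R} (hG : IsKFlat G) (π : G ⟶ resCx φ P) (hπ : QuasiIso π)
    {F : Cx R} (hF : IsKFlat F) (ε : F ⟶ resCx ρ (𝟙_ (Cx R'))) (hε : QuasiIso ε)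
    (hAε : QuasiIso ((extF φ).map ε)) :
    QuasiIso ((extF ρ).map π) := by
  have h1 : QuasiIso (resCx φ P ◁ ε) :=
    (quasiIso_res_whiskerLeft_iff φ P ε).2 (quasiIso_whiskerLeft_of_isKFlat P hP _ hAε)
  have h2 : QuasiIso (ε ▷ resCx φ P) := by
    have e : ε ▷ resCx φ P =
        (braid (resCx φ P) F).inv ≫ (resCx φ P ◁ ε) ≫ (braid (resCx φ P) _).hom := by
      rw [braid_whiskerLeft, Iso.inv_hom_id_assoc]
    rw [e]
    infer_instance
  have h3 : QuasiIso (F ◁ π) := quasiIso_whiskerLeft_of_isKFlat F hF π hπ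
  have h4 : QuasiIso (ε ▷ G) := quasiIso_whiskerRight_of_isKFlat G hG ε hε
  have h5 : QuasiIso ((ε ▷ G) ≫ (resCx ρ (𝟙_ (Cx R')) ◁ π)) := by
    rw [← whisker_exchange]
    infer_instance
  have h6 : QuasiIso (resCx ρ (𝟙_ (Cx R')) ◁ π) := quasiIso_of_comp_left (ε ▷ G) _
  exact (quasiIso_res_unit_whiskerLeft_iff ρ π).1 h6

end Groth.Agent.Lib.Helper25.TrivBC
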