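import Groth.Agent.Lib.Helper25.TrivBC.QisTransfer
import Groth.Agent.Lib.Helper25.KFlatBC
import Groth.Agent.Lib.Helper25.TensorAssoc

/-!
# Naturality of the comparison `res L' ⊗_R K ≃ L' ⊗_{R'} ext K` and transfer of quasi-isomorphisms
-/

set_option autoImplicit false
universe u

namespace Groth.Agent.Lib.Helper25.TrivBC

open CategoryTheory CategoryTheory.Limits MonoidalCategory HomologicalComplex CochainComplex
open Groth.Agent.Lib.Helper25.TensorCx Groth.Agent.Lib.Helper25.KFlat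

variable {R R' : Type u} [CommRing R] [CommRing R'] (φ : R →+* R')

/-- termwise extension of scalars, as a functor -/
noncomputable abbrev extF : Cx R ⥤ Cx R' :=
  (ModuleCat.extendScalars.{u, u, u} φ).mapHomologicalComplex (ComplexShape.up ℤ)

/-- termwise restriction of scalars, as a functor -/
noncomputable abbrev resF : Cx R' ⥤ Cx R :=
  (ModuleCat.restrictScalars.{u} φ).mapHomologicalComplex (ComplexShape.up ℤ)

variable (L' : Cx R') {K K' : Cx R} (f : K ⟶ K')

theorem Psi_natural (n : ℤ) (x : (resCx φ L' ⊗ K : Cx R).X n) :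
    Psi φ L' K' n ((resCx φ L' ◁ f : (resCx φ L' ⊗ K : Cx R) ⟶ resCx φ L' ⊗ K').f n x) =
      (L' ◁ (extF φ).map f : (L' ⊗ extCx φ K : Cx R') ⟶ L' ⊗ extCx φ K').f n (Psi φ L' K n x) := by
  induction x using tm_induction (resCx φ L') K with
  | zero => simp only [map_zero]
  | add x y hx hy => simp only [map_add, hx, hy]
  | tm' p q h l k =>
    rw [whiskerLeft_tm, Psi_tm, Psi_tm, whiskerLeft_tm]
    rfl

/-- `Psi` as an additive equivalence. -/
noncomputable def PsiEquiv (K : Cx R) (n : ℤ) :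
    (resCx φ L' ⊗ K : Cx R).X n ≃+ (L' ⊗ extCx φ K : Cx R').X n :=
  AddEquiv.ofBijective (Psi φ L' K n) (Psi_bijective φ L' K n)

theorem PsiEquiv_d (K : Cx R) (n m : ℤ) (x : (resCx φ L' ⊗ K : Cx R).X n) :
    PsiEquiv φ L' K m ((resCx φ L' ⊗ K : Cx R).d n m x) =
      (L' ⊗ extCx φ K : Cx R').d n m (PsiEquiv φ L' K n x) := by
  by_cases h : n + 1 = m
  · exact (Psi_d φ L' K n m h x).symm
  · have h1 : (resCx φ L' ⊗ K : Cx R).d n m = 0 := HomologicalComplex.shape _ _ _ h
    have h2 : (L' ⊗ extCx φ K : Cx R').d n m = 0 := HomologicalComplex.shape _ _ _ h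
    rw [h1, h2]
    simp only [ModuleCat.hom_zero, LinearMap.zero_apply, map_zero]

/-- Tensoring `res L'` over `R` with `f` is a quasi-isomorphism iff tensoring `L'` over `R'` with
the extension of scalars of `f` is. -/
theorem quasiIso_res_whiskerLeft_iff :
    QuasiIso (resCx φ L' ◁ f : (resCx φ L' ⊗ K : Cx R) ⟶ resCx φ L' ⊗ K') ↔
      QuasiIso (L' ◁ (extF φ).map f : (L' ⊗ extCx φ K : Cx R') ⟶ L' ⊗ extCx φ K') :=
  quasiIso_iff_of_addEquiv _ _ (PsiEquiv φ L' K) (PsiEquiv φ L' K')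
    (PsiEquiv_d φ L' K) (PsiEquiv_d φ L' K') (Psi_natural φ L' f)

/-- Tensoring over `R` with `R'` (in degree zero) computes extension of scalars. -/
theorem quasiIso_res_unit_whiskerLeft_iff :
    QuasiIso (resCx φ (𝟙_ (Cx R')) ◁ f :
      (resCx φ (𝟙_ (Cx R')) ⊗ K : Cx R) ⟶ resCx φ (𝟙_ (Cx R')) ⊗ K') ↔
      QuasiIso ((extF φ).map f) := by
  rw [quasiIso_res_whiskerLeft_iff]
  have h : (𝟙_ (Cx R') ◁ (extF φ).map f) =
      (λ_ (extCx φ K)).hom ≫ (extF φ).map f ≫ (λ_ (extCx φ K')).inv := by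
    rw [← Category.assoc, ← leftUnitor_naturality, Category.assoc, Iso.hom_inv_id,
      Category.comp_id]
  constructor
  · intro h1
    have h2 : (extF φ).map f =
        (λ_ (extCx φ K)).inv ≫ (𝟙_ (Cx R') ◁ (extF φ).map f) ≫ (λ_ (extCx φ K')).hom := by
      rw [h]
      simp only [Category.assoc, Iso.inv_hom_id, Category.comp_id, Iso.inv_hom_id_assoc]
    rw [h2]
    infer_instance
  · intro h1
    rw [h]
    infer_instance

end Groth.Agent.Lib.Helper25.TrivBC
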