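import Groth.Agent.Lib.Helper25.TrivBC.TensId
import Groth.Agent.Lib.Helper25.TrivBC.PsiNat
import Groth.Prelude.Def_DRing2
import Mathlib.CategoryTheory.Abelian.Projective.Extend
import Mathlib.CategoryTheory.Abelian.Projective.Resolution
import Mathlib.Algebra.Category.ModuleCat.Projective
import Mathlib.LinearAlgebra.TensorProduct.RightExactness

/-!
# From vanishing of `Tor` to a resolution of `R'` that stays exact after base change to `A`
-/

set_option autoImplicit false
universe u

namespace Groth.Agent.Lib.Helper25.TrivBC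

open CategoryTheory CategoryTheory.Limits MonoidalCategory HomologicalComplex TensorProduct
open Groth.Agent.Lib.Helper25.TensorCx Groth.Agent.Lib.Helper25.KFlat

variable {R A R' : Type u} [CommRing R] [CommRing A] [CommRing R'] [Algebra R A] [Algebra R R']

section Exactness

variable (htor : ∀ p : ℕ, 1 ≤ p → Subsingleton (DRing.Tor R p A R'))
  (Pr : ProjectiveResolution (ModuleCat.of R R'))

include htor in
theorem tor_exact (p : ℕ) (x : A ⊗[R] (Pr.complex.X (p + 1)))
    (hx : LinearMap.lTensor A (Pr.complex.d (p + 1) p).hom x = 0) :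
    ∃ y : A ⊗[R] Pr.complex.X (p + 2),
      LinearMap.lTensor A (Pr.complex.d (p + 2) (p + 1)).hom y = x := by
  let T := ((tensorLeft (ModuleCat.of R A)).mapHomologicalComplex (ComplexShape.down ℕ)).obj
    Pr.complex
  have h0 : IsZero (((tensorLeft (ModuleCat.of R A)).leftDerived (p + 1)).obj
      (ModuleCat.of R R')) := by
    haveI : Subsingleton (((tensorLeft (ModuleCat.of R A)).leftDerived (p + 1)).obj
      (ModuleCat.of R R')) := htor (p + 1) (by omega)
    exact ModuleCat.isZero_of_subsingleton _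
  have h1 : IsZero (T.homology (p + 1)) :=
    h0.of_iso (Pr.isoLeftDerivedObj (tensorLeft (ModuleCat.of R A)) (p + 1)).symm
  have h2 : T.ExactAt (p + 1) := (T.exactAt_iff_isZero_homology (p + 1)).2 h1
  have h3 : (T.sc' (p + 2) (p + 1) p).Exact :=
    (HomologicalComplex.exactAt_iff' T (p + 2) (p + 1) p (by simp) (by simp)).1 h2
  rw [ShortComplex.moduleCat_exact_iff] at h3
  exact h3 x hx

theorem aug_exact (x : A ⊗[R] (Pr.complex.X 0))
    (hx : LinearMap.lTensor A (Pr.π.f 0).hom x = 0) :
    ∃ y : A ⊗[R] Pr.complex.X 1, LinearMap.lTensor A (Pr.complex.d 1 0).hom y = x := by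
  have h1 : Function.Exact (Pr.complex.d 1 0).hom (Pr.π.f 0).hom := by
    have := Pr.exact₀
    rw [ShortComplex.ShortExact.moduleCat_exact_iff_function_exact] at this
    exact this
  have h2 : Function.Surjective (Pr.π.f 0).hom :=
    (ModuleCat.epi_iff_surjective (Pr.π.f 0)).1 inferInstance
  have h3 := lTensor_exact A h1 h2
  exact (h3 x).1 hx

theorem aug_surjective : Function.Surjective (LinearMap.lTensor A (Pr.π.f 0).hom) :=
  LinearMap.lTensor_surjective A ((ModuleCat.epi_iff_surjective (Pr.π.f 0)).1 inferInstance)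

end Exactness

section Complex

variable (R A) in
/-- extension of scalars along `algebraMap R A` -/
noncomputable abbrev EA : ModuleCat.{u} R ⥤ ModuleCat.{u} A :=
  ModuleCat.extendScalars.{u, u, u} (algebraMap R A)

theorem E_comp_apply {M N P : ModuleCat.{u} R} (f : M ⟶ N) (g : N ⟶ P) (x : (EA R A).obj M) :
    (EA R A).map g ((EA R A).map f x) = (EA R A).map (f ≫ g) x := by
  rw [Functor.map_comp]
  rfl

theorem E_inv_hom_apply {M N : ModuleCat.{u} R} (e : M ≅ N) (x : (EA R A).obj M) :
    (EA R A).map e.inv ((EA R A).map e.hom x) = x := by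
  rw [E_comp_apply, e.hom_inv_id, CategoryTheory.Functor.map_id]
  rfl

theorem E_hom_inv_apply {M N : ModuleCat.{u} R} (e : M ≅ N) (x : (EA R A).obj N) :
    (EA R A).map e.hom ((EA R A).map e.inv x) = x := by
  rw [E_comp_apply, e.inv_hom_id, CategoryTheory.Functor.map_id]
  rfl

theorem E_map_eq_symm {M N : ModuleCat.{u} R} (f : M ⟶ N) (z : (EA R A).obj M) :
    (EA R A).map f z = (tensIdEquiv (S := A) N).symm
      (LinearMap.lTensor A f.hom (tensIdEquiv (S := A) M z)) := by
  rw [← tensIdEquiv_map, AddEquiv.symm_apply_apply]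

theorem subsingleton_E_of_isZero {M : ModuleCat.{u} R} (h : IsZero M) :
    Subsingleton ((EA R A).obj M) :=
  ModuleCat.subsingleton_of_isZero ((EA R A).map_isZero h)

variable (Pr : ProjectiveResolution (ModuleCat.of R R'))

/-- abstract injectivity step -/
theorem aux_inj {X0 P0 Z S0 : ModuleCat.{u} R} (c : X0 ≅ P0) (π₀ : P0 ⟶ Z) (s : S0 ≅ Z)
    (f : X0 ⟶ S0) (hf : f = c.hom ≫ π₀ ≫ s.inv) (x : (EA R A).obj X0)
    (hx : (EA R A).map f x = 0) :
    LinearMap.lTensor A π₀.hom (tensIdEquiv (S := A) _ ((EA R A).map c.hom x)) = 0 := by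
  subst hf
  rw [← tensIdEquiv_map, E_comp_apply]
  have h2 : (EA R A).map s.hom ((EA R A).map (c.hom ≫ π₀ ≫ s.inv) x) = 0 := by
    rw [hx, map_zero]
  rw [E_comp_apply] at h2
  simp only [Category.assoc, Iso.inv_hom_id, Category.comp_id] at h2
  rw [h2, map_zero]

/-- abstract surjectivity step -/
theorem aux_surj {X0 P0 Z S0 : ModuleCat.{u} R} (c : X0 ≅ P0) (π₀ : P0 ⟶ Z) (s : S0 ≅ Z)
    (f : X0 ⟶ S0) (hf : f = c.hom ≫ π₀ ≫ s.inv) (y : (EA R A).obj S0) (x' : A ⊗[R] P0)
    (hx' : LinearMap.lTensor A π₀.hom x' = tensIdEquiv (S := A) _ ((EA R A).map s.hom y)) :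
    (EA R A).map f ((EA R A).map c.inv ((tensIdEquiv (S := A) _).symm x')) = y := by
  subst hf
  have h1 : (EA R A).map π₀ ((tensIdEquiv (S := A) P0).symm x') = (EA R A).map s.hom y := by
    apply (tensIdEquiv (S := A) _).injective
    rw [tensIdEquiv_map, AddEquiv.apply_symm_apply, hx']
  rw [E_comp_apply, Iso.inv_hom_id_assoc, ← E_comp_apply, h1, E_inv_hom_apply]

variable (htor : ∀ p : ℕ, 1 ≤ p → Subsingleton (DRing.Tor R p A R'))

include htor in
/-- Under Tor-independence the projective resolution of `R'` stays a resolution after base change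
to `A`. -/
theorem quasiIso_extF_π' : QuasiIso ((extF (algebraMap R A)).map Pr.π') := by
  have hXpos : ∀ m : ℤ, 0 < m →
      Subsingleton (((extF (algebraMap R A)).obj Pr.cochainComplex).X m) := fun m hm =>
    subsingleton_E_of_isZero (CochainComplex.isZero_of_isStrictlyLE _ 0 m hm)
  have hYne : ∀ m : ℤ, m ≠ 0 → Subsingleton (((extF (algebraMap R A)).obj
      ((CochainComplex.singleFunctor (ModuleCat.{u} R) 0).obj (ModuleCat.of R R'))).X m) :=
    fun m hm => subsingleton_E_of_isZero
      (HomologicalComplex.isZero_single_obj_X (ComplexShape.up ℤ) 0 _ m hm)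
  apply QisElem.quasiIso_of_elementwise
  · intro n m k hnm hmk x hx y hy
    by_cases hm : 0 < m
    · haveI := hXpos m hm
      exact ⟨0, Subsingleton.elim _ _⟩
    by_cases hm0 : m = 0
    · subst hm0
      have hn : -((0 + 1 : ℕ) : ℤ) = n := by omega
      have h0 : -((0 : ℕ) : ℤ) = (0 : ℤ) := by simp
      haveI := hYne n (by omega)
      have hy0 : (EA R A).map (Pr.π'.f 0) x = 0 := by
        have : y = 0 := Subsingleton.elim _ _
        rw [this, map_zero] at hy
        exact hy
      have key := aux_inj (A := A) (Pr.cochainComplexXIso 0 0 h0) (Pr.π.f 0)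
        (HomologicalComplex.singleObjXSelf (ComplexShape.up ℤ) 0 (ModuleCat.of R R'))
        (Pr.π'.f 0) Pr.π'_f_zero x hy0
      obtain ⟨y', hy'⟩ := aug_exact Pr _ key
      exact ⟨_, aux_surj (A := A) (Pr.cochainComplexXIso n (0 + 1) hn) (Pr.complex.d (0 + 1) 0)
        (Pr.cochainComplexXIso 0 0 h0) (Pr.cochainComplex.d n 0)
        (Pr.cochainComplex_d n 0 (0 + 1) 0 hn h0) x y' hy'⟩
    · obtain ⟨q, hq⟩ : ∃ q : ℕ, -((q + 1 : ℕ) : ℤ) = m := ⟨(-m).toNat - 1, by omega⟩
      have hn : -((q + 1 + 1 : ℕ) : ℤ) = n := by omega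
      have hk : -(q : ℤ) = k := by omega
      have key := aux_inj (A := A) (Pr.cochainComplexXIso m (q + 1) hq) (Pr.complex.d (q + 1) q)
        (Pr.cochainComplexXIso k q hk) (Pr.cochainComplex.d m k)
        (Pr.cochainComplex_d m k (q + 1) q hq hk) x hx
      obtain ⟨y', hy'⟩ := tor_exact htor Pr q _ key
      exact ⟨_, aux_surj (A := A) (Pr.cochainComplexXIso n (q + 1 + 1) hn)
        (Pr.complex.d (q + 1 + 1) (q + 1))
        (Pr.cochainComplexXIso m (q + 1) hq) (Pr.cochainComplex.d n m)
        (Pr.cochainComplex_d n m (q + 1 + 1) (q + 1) hn hq) x y' hy'⟩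
  · intro n m k hnm hmk y hy
    by_cases hm0 : m = 0
    · subst hm0
      have h0 : -((0 : ℕ) : ℤ) = (0 : ℤ) := by simp
      obtain ⟨x', hx'⟩ := aug_surjective (A := A) Pr
        (tensIdEquiv (S := A) _ ((EA R A).map (HomologicalComplex.singleObjXSelf
          (ComplexShape.up ℤ) 0 (ModuleCat.of R R')).hom y))
      refine ⟨(EA R A).map (Pr.cochainComplexXIso 0 0 h0).inv
        ((tensIdEquiv (S := A) _).symm x'), 0, ?_, ?_⟩
      · haveI := hXpos k (by omega)
        exact Subsingleton.elim _ _
      · have h2 := aux_surj (A := A) (Pr.cochainComplexXIso 0 0 h0) (Pr.π.f 0)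
          (HomologicalComplex.singleObjXSelf (ComplexShape.up ℤ) 0 (ModuleCat.of R R'))
          (Pr.π'.f 0) Pr.π'_f_zero y x' hx'
        have h3 : ((extF (algebraMap R A)).map Pr.π').f 0
            ((EA R A).map (Pr.cochainComplexXIso 0 0 h0).inv
              ((tensIdEquiv (S := A) _).symm x')) = y := h2
        rw [h3, sub_self, map_zero]
    · haveI := hYne m hm0
      exact ⟨0, 0, by rw [map_zero], Subsingleton.elim _ _⟩

end Complex

section Resolution

variable (R R') in
/-- `R'` as an `R`-module versus the restriction of scalars of `R'` -/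
noncomputable def ofResIso :
    ModuleCat.of R R' ≅
      (ModuleCat.restrictScalars.{u} (algebraMap R R')).obj (𝟙_ (ModuleCat.{u} R')) :=
  LinearEquiv.toModuleIso
    (show (ModuleCat.of R R') ≃ₗ[R]
        ((ModuleCat.restrictScalars.{u} (algebraMap R R')).obj (𝟙_ (ModuleCat.{u} R'))) from
    { toFun := fun x => x
      invFun := fun x => x
      left_inv := fun _ => rfl
      right_inv := fun _ => rfl
      map_add' := fun _ _ => rfl
      map_smul' := fun r x => by
        change (r • (x : R') : R') = algebraMap R R' r * (x : R')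
        rw [Algebra.smul_def] })

variable (R R') in
/-- `R'[0]` over `R` versus the restriction of the unit complex over `R'` -/
noncomputable def singleResIso :
    (CochainComplex.singleFunctor (ModuleCat.{u} R) 0).obj (ModuleCat.of R R') ≅
      resCx (algebraMap R R') (𝟙_ (Cx R')) :=
  (HomologicalComplex.single (ModuleCat.{u} R) (ComplexShape.up ℤ) 0).mapIso (ofResIso R R') ≪≫
    ((HomologicalComplex.singleMapHomologicalComplex
      (ModuleCat.restrictScalars.{u} (algebraMap R R')) (ComplexShape.up ℤ) 0).app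
        (𝟙_ (ModuleCat.{u} R'))).symm

theorem isKFlat_cochainComplex (Pr : ProjectiveResolution (ModuleCat.of R R')) :
    IsKFlat Pr.cochainComplex := by
  apply isKFlat_of_boundedAbove_of_flat Pr.cochainComplex 0
  · intro q hq
    exact CochainComplex.isZero_of_isStrictlyLE _ 0 q hq
  · intro q
    haveI : Module.Projective R (Pr.cochainComplex.X q) :=
      (IsProjective.iff_projective (R := R) (Pr.cochainComplex.X q)).2
        (inferInstanceAs (Projective (Pr.cochainComplex.X q)))
    infer_instance

/-- Under Tor-independence of `A` and `R'` over `R` there is a K-flat resolution of `R'` over `R`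
which stays a resolution after base change to `A`. -/
theorem exists_resolution (htor : ∀ p : ℕ, 1 ≤ p → Subsingleton (DRing.Tor R p A R')) :
    ∃ (F : Cx R) (ε : F ⟶ resCx (algebraMap R R') (𝟙_ (Cx R'))), IsKFlat F ∧ QuasiIso ε ∧
      QuasiIso ((extF (algebraMap R A)).map ε) := by
  let Pr : ProjectiveResolution (ModuleCat.of R R') := projectiveResolution _
  refine ⟨Pr.cochainComplex, Pr.π' ≫ (singleResIso R R').hom, isKFlat_cochainComplex Pr,
    inferInstance, ?_⟩
  rw [Functor.map_comp]
  haveI := quasiIso_extF_π' (A := A) Pr htor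
  infer_instance

end Resolution

end Groth.Agent.Lib.Helper25.TrivBC
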