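import Groth.Agent.Lib.Helper25.TrivBC.Pushout
import Groth.Agent.Lib.Helper25.TrivBC.Balance
import Groth.Agent.Lib.Helper25.TrivBC.TorBridge
import Groth.Agent.Lib.Helper25.BaseCmp
import Groth.Agent.Lib.Helper25.LTenCompute
import Groth.Prelude.Def_TrivBC

/-!
# The base change comparison `TrivBC.cmp` for Tor-independent pushout squares
-/

set_option autoImplicit false
universe u

namespace Groth.Agent.Lib.Helper25.TrivBC

open CategoryTheory CategoryTheory.Limits MonoidalCategory HomologicalComplex DerivedCategory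
open Groth.Agent.Lib.Helper25.TensorCx Groth.Agent.Lib.Helper25.KFlat
open Groth.Agent.Lib.Helper15

attribute [local instance] HasDerivedCategory.standard

section Square

variable {R A R' A' : Type u} [CommRing R] [CommRing A] [CommRing R'] [CommRing A']
  {φ : R →+* A} {ρ : R →+* R'} {α : A →+* A'} {φ' : R' →+* A'} (h : α.comp φ = φ'.comp ρ)

/-- chain-level identification of the two restrictions of scalars -/
noncomputable def resCommCxHom (X : Cx A') :
    (resF φ).obj ((resF α).obj X) ⟶ (resF ρ).obj ((resF φ').obj X) where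
  f n := (_root_.TrivBC.resCommMod h).hom.app (X.X n)
  comm' i j _ := ((_root_.TrivBC.resCommMod h).hom.naturality (X.d i j)).symm

theorem resCommCx_hom_app (X : Cx A') :
    (_root_.TrivBC.resCommCx h).hom.app X = Q.map (resCommCxHom h X) := by
  unfold _root_.TrivBC.resCommCx
  simp only [Iso.trans_hom, Iso.symm_hom, Functor.isoWhiskerRight_hom, NatTrans.comp_app,
    Functor.associator_inv_app, Functor.associator_hom_app, Functor.whiskerRight_app,
    Category.id_comp, Category.comp_id]
  congr 1

theorem resComm_hom_app_Q (X : Cx A') :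
    (_root_.TrivBC.resComm h).hom.app (Q.obj X) =
      (DRing.restrictD φ).map ((DTen.resFactors α).hom.app X) ≫
        (DTen.resFactors φ).hom.app ((resF α).obj X) ≫ Q.map (resCommCxHom h X) ≫
          (DTen.resFactors ρ).inv.app ((resF φ').obj X) ≫
            (DRing.restrictD ρ).map ((DTen.resFactors φ').inv.app X) := by
  unfold _root_.TrivBC.resComm
  rw [Localization.liftNatIso_hom]
  erw [Localization.liftNatTrans_app]
  rw [resCommCx_hom_app]
  have e1 : (Localization.Lifting.iso Q (quasiIso (ModuleCat.{u} A') (ComplexShape.up ℤ))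
      (resF α ⋙ resF φ ⋙ Q) (DRing.restrictD α ⋙ DRing.restrictD φ)
      (self := _root_.TrivBC.liftingRes₂ α φ)).hom.app X =
        (DRing.restrictD φ).map ((DTen.resFactors α).hom.app X) ≫
          (DTen.resFactors φ).hom.app ((resF α).obj X) := by
    change ((Functor.associator _ _ _).symm ≪≫
      Functor.isoWhiskerRight (ModuleCat.restrictScalars.{u} α).mapDerivedCategoryFactors _ ≪≫
        Functor.associator _ _ _ ≪≫
          Functor.isoWhiskerLeft _
            (ModuleCat.restrictScalars.{u} φ).mapDerivedCategoryFactors).hom.app X = _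
    simp only [Iso.trans_hom, Iso.symm_hom, Functor.isoWhiskerRight_hom,
      Functor.isoWhiskerLeft_hom, NatTrans.comp_app, Functor.associator_inv_app,
      Functor.associator_hom_app, Functor.whiskerRight_app, Functor.whiskerLeft_app,
      Category.id_comp, Category.comp_id]
  have e2 : (Localization.Lifting.iso Q (quasiIso (ModuleCat.{u} A') (ComplexShape.up ℤ))
      (resF φ' ⋙ resF ρ ⋙ Q) (DRing.restrictD φ' ⋙ DRing.restrictD ρ)
      (self := _root_.TrivBC.liftingRes₂ φ' ρ)).inv.app X =
        (DTen.resFactors ρ).inv.app ((resF φ').obj X) ≫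
          (DRing.restrictD ρ).map ((DTen.resFactors φ').inv.app X) := by
    change ((Functor.associator _ _ _).symm ≪≫
      Functor.isoWhiskerRight (ModuleCat.restrictScalars.{u} φ').mapDerivedCategoryFactors _ ≪≫
        Functor.associator _ _ _ ≪≫
          Functor.isoWhiskerLeft _
            (ModuleCat.restrictScalars.{u} ρ).mapDerivedCategoryFactors).inv.app X = _
    simp only [Iso.trans_inv, Iso.symm_inv, Functor.isoWhiskerRight_inv,
      Functor.isoWhiskerLeft_inv, NatTrans.comp_app, Functor.associator_inv_app,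
      Functor.associator_hom_app, Functor.whiskerRight_app, Functor.whiskerLeft_app,
      Category.id_comp, Category.comp_id, Category.assoc]
  rw [e1, e2]
  simp only [Category.assoc]

/-- the chain-level base change map `(P|_R) ⊗_R R' ⟶ (P ⊗_A A')|_{R'}` -/
noncomputable def bcCx (P : Cx A) :
    (extF ρ).obj ((resF φ).obj P) ⟶ (resF φ').obj ((extF α).obj P) where
  f n := bcMod h (P.X n)
  comm' i j _ := (bcMod_naturality h (P.d i j)).symm

theorem unitCx_bcCx (P : Cx A) :
    (resF φ).map ((DTen.unitCx α).app P) ≫ resCommCxHom h ((extF α).obj P) =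
      (DTen.unitCx ρ).app ((resF φ).obj P) ≫ (resF ρ).map (bcCx h P) := by
  ext n : 1
  have h1 := homEquiv_bcMod h (P.X n)
  rw [Adjunction.homEquiv_unit] at h1
  exact h1.symm

variable [DRing.HasLBaseChange ρ] [DRing.HasLBaseChange α]

theorem cmp_eq_mateApp (adjρ : DRing.LBaseChange ρ ⊣ DRing.restrictD ρ)
    (adjα : DRing.LBaseChange α ⊣ DRing.restrictD α) (K : Dual.D A) :
    _root_.TrivBC.cmp adjρ adjα h K =
      mateApp (G := DRing.restrictD φ) (H := DRing.restrictD φ') adjα adjρ
        (_root_.TrivBC.resComm h).hom K := rfl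

theorem homEquiv_rhs (P : Cx A) :
    (LBCAdj.adj ρ).homEquiv _ _ (LDerived.lbcMap ρ ((resF φ).obj P) ≫ Q.map (bcCx h P)) =
      Q.map ((DTen.unitCx ρ).app ((resF φ).obj P) ≫ (resF ρ).map (bcCx h P)) ≫
        (DTen.resFactors ρ).inv.app ((resF φ').obj ((extF α).obj P)) := by
  rw [Adjunction.homEquiv_naturality_right, Adjunction.homEquiv_unit]
  have u := BaseCmp.unit_lbcMap ρ ((resF φ).obj P)
  have n := (DTen.resFactors ρ).inv.naturality (bcCx h P)
  dsimp at n
  rw [u, Category.assoc, ← n, ← Category.assoc, ← Q.map_comp]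

theorem homEquiv_lhs (P : Cx A) :
    (LBCAdj.adj ρ).homEquiv _ _
      ((DRing.LBaseChange ρ).map ((DTen.resFactors φ).inv.app P) ≫
        _root_.TrivBC.cmp (LBCAdj.adj ρ) (LBCAdj.adj α) h (Q.obj P) ≫
          (DRing.restrictD φ').map (LDerived.lbcMap α P) ≫
            (DTen.resFactors φ').hom.app ((extF α).obj P)) =
      Q.map ((resF φ).map ((DTen.unitCx α).app P) ≫ resCommCxHom h ((extF α).obj P)) ≫
        (DTen.resFactors ρ).inv.app ((resF φ').obj ((extF α).obj P)) := by
  rw [Adjunction.homEquiv_naturality_left, Adjunction.homEquiv_naturality_right, cmp_eq_mateApp]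
  have hm := homEquiv_mateApp (G := DRing.restrictD φ) (H := DRing.restrictD φ') (LBCAdj.adj α)
    (LBCAdj.adj ρ) (_root_.TrivBC.resComm h).hom (Q.obj P)
  dsimp only [Functor.comp_obj] at hm ⊢
  rw [hm]
  have n1 := (_root_.TrivBC.resComm h).hom.naturality (LDerived.lbcMap α P)
  have u := BaseCmp.unit_lbcMap α P
  have n2 := (DTen.resFactors φ).inv.naturality ((DTen.unitCx α).app P)
  have rc := resComm_hom_app_Q h ((extF α).obj P)
  dsimp at n1 n2
  simp only [Functor.map_comp, Category.assoc]
  rw [← reassoc_of% n1, ← Functor.map_comp_assoc, u, Functor.map_comp, Category.assoc,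
    ← reassoc_of% n2]
  have rc' : (_root_.TrivBC.resComm h).hom.app (DRing.toD (LDerived.extCx α P)) = _ := rc
  rw [rc']
  simp only [Category.assoc]
  rw [← Functor.map_comp_assoc, Iso.inv_hom_id_app]
  erw [CategoryTheory.Functor.map_id, Category.id_comp]
  erw [Iso.inv_hom_id_app_assoc]
  rw [← Functor.map_comp, Iso.inv_hom_id_app]
  erw [CategoryTheory.Functor.map_id, Category.comp_id]

theorem cmp_canonical (P : Cx A) :
    (DRing.LBaseChange ρ).map ((DTen.resFactors φ).inv.app P) ≫
      _root_.TrivBC.cmp (LBCAdj.adj ρ) (LBCAdj.adj α) h (Q.obj P) ≫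
        (DRing.restrictD φ').map (LDerived.lbcMap α P) ≫
          (DTen.resFactors φ').hom.app ((extF α).obj P) =
      LDerived.lbcMap ρ ((resF φ).obj P) ≫ Q.map (bcCx h P) := by
  apply ((LBCAdj.adj ρ).homEquiv _ _).injective
  exact (homEquiv_lhs h P).trans ((congrArg (fun t => Q.map t ≫
    (DTen.resFactors ρ).inv.app ((resF φ').obj ((extF α).obj P))) (unitCx_bcCx h P)).trans
      (homEquiv_rhs h P).symm)

theorem isIso_bcCx (P : Cx A) (hb : ∀ n, Function.Bijective (bcMod h (P.X n))) :
    IsIso (bcCx h P) := by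
  haveI : ∀ n, IsIso ((bcCx h P).f n) := fun n =>
    (ConcreteCategory.isIso_iff_bijective (bcMod h (P.X n))).2 (hb n)
  exact HomologicalComplex.Hom.isIso_of_components _

omit [DRing.HasLBaseChange α] in
/-- Under Tor-independence, the restriction to `R` of a K-flat complex over `A` is acyclic for
derived base change along `ρ`. -/
theorem isIso_lbcMap_res (P : Cx A) (hP : IsKFlat P) {F : Cx R} (hF : IsKFlat F)
    (ε : F ⟶ resCx ρ (𝟙_ (Cx R'))) (hε : QuasiIso ε) (hAε : QuasiIso ((extF φ).map ε)) :
    IsIso (LDerived.lbcMap ρ ((resF φ).obj P)) := by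
  obtain ⟨G, π, hG, -, hπ, -⟩ := KFlatRes.exists_kflat_resolution ((resF φ).obj P)
  have h1 : IsIso (Q.map π) := by rw [isIso_Q_map_iff_quasiIso]; exact hπ
  have h2 : IsIso (Q.map ((extF ρ).map π)) := by
    rw [isIso_Q_map_iff_quasiIso]
    exact quasiIso_ext_map_of_balance φ ρ P hP hG π hπ hF ε hε hAε
  have h3 := LDerived.lbcMap_naturality ρ π
  have h4 : IsIso (LDerived.lbcMap ρ G) := LBCKFlat.isIso_lbcMap_of_isKFlat ρ G hG
  have h5 : IsIso ((DRing.LBaseChange ρ).map (Q.map π) ≫
      LDerived.lbcMap ρ ((resF φ).obj P)) := by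
    rw [h3]; infer_instance
  exact IsIso.of_isIso_comp_left ((DRing.LBaseChange ρ).map (Q.map π)) _

/-- `TrivBC.cmp` for the canonical adjunctions at a K-flat complex. -/
theorem isIso_cmp_canonical (P : Cx A) (hP : IsKFlat P)
    (hl : IsIso (LDerived.lbcMap ρ ((resF φ).obj P)))
    (hb : ∀ n, Function.Bijective (bcMod h (P.X n))) :
    IsIso (_root_.TrivBC.cmp (LBCAdj.adj ρ) (LBCAdj.adj α) h (Q.obj P)) := by
  have h1 := cmp_canonical h P
  haveI := isIso_bcCx h P hb
  haveI : IsIso (LDerived.lbcMap α P) := LBCKFlat.isIso_lbcMap_of_isKFlat α P hP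
  have h2 : IsIso ((DRing.LBaseChange ρ).map ((DTen.resFactors φ).inv.app P) ≫
      _root_.TrivBC.cmp (LBCAdj.adj ρ) (LBCAdj.adj α) h (Q.obj P) ≫
        (DRing.restrictD φ').map (LDerived.lbcMap α P) ≫
          (DTen.resFactors φ').hom.app ((extF α).obj P)) := by
    rw [h1]; infer_instance
  have h3 : IsIso (_root_.TrivBC.cmp (LBCAdj.adj ρ) (LBCAdj.adj α) h (Q.obj P) ≫
        (DRing.restrictD φ').map (LDerived.lbcMap α P) ≫
          (DTen.resFactors φ').hom.app ((extF α).obj P)) :=
    IsIso.of_isIso_comp_left ((DRing.LBaseChange ρ).map ((DTen.resFactors φ).inv.app P)) _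
  exact IsIso.of_isIso_comp_right _ ((DRing.restrictD φ').map (LDerived.lbcMap α P) ≫
          (DTen.resFactors φ').hom.app ((extF α).obj P))

end Square

section Final

variable {R A R' A' : Type u} [CommRing R] [CommRing A] [CommRing R'] [CommRing A']
  [Algebra R A] [Algebra R R'] [Algebra A A'] [Algebra R' A'] [Algebra R A']
  [IsScalarTower R A A'] [IsScalarTower R R' A'] [Algebra.IsPushout R A R' A']

/-- Base change for Tor-independent pushout squares: the comparison map
`(K|_R) ⊗^L_R R' ⟶ (K ⊗^L_A A')|_{R'}` is an isomorphism. -/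
theorem isIso_cmp (htor : ∀ p : ℕ, 1 ≤ p → Subsingleton (DRing.Tor R p A R'))
    [DRing.HasLBaseChange (algebraMap R R')] [DRing.HasLBaseChange (algebraMap A A')]
    (adjρ : DRing.LBaseChange (algebraMap R R') ⊣ DRing.restrictD (algebraMap R R'))
    (adjα : DRing.LBaseChange (algebraMap A A') ⊣ DRing.restrictD (algebraMap A A'))
    (h : (algebraMap A A').comp (algebraMap R A) = (algebraMap R' A').comp (algebraMap R R'))
    (K : Dual.D A) : IsIso (_root_.TrivBC.cmp adjρ adjα h K) := by
  rw [cmp_eq_mateApp,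
    isIso_mateApp_iff adjα adjρ _ (LBCAdj.adj (algebraMap A A')) (LBCAdj.adj (algebraMap R R'))]
  obtain ⟨P, -, hPf, ⟨e⟩⟩ := LTenCompute.exists_kproj_kflat K
  apply isIso_mateApp_of_iso _ _ _ e.symm
  rw [← cmp_eq_mateApp]
  obtain ⟨F, ε, hF, hε, hAε⟩ := exists_resolution (A := A) (R' := R') htor
  exact isIso_cmp_canonical h P hPf (isIso_lbcMap_res P hPf hF ε hε hAε)
    (fun n => bcMod_bijective h (P.X n))

end Final

end Groth.Agent.Lib.Helper25.TrivBC
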