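import Mathlib.CategoryTheory.Adjunction.Unique
import Mathlib.CategoryTheory.Adjunction.Basic

/-!
# The mate of a natural transformation, componentwise

`mateApp adj₁ adj₂ τ c : L₂ (G c) ⟶ H (L₁ c)` for `τ : R₁ ⋙ G ⟶ H ⋙ R₂`; naturality and independence
(up to isomorphisms) of the chosen adjunctions.
-/

set_option autoImplicit false

namespace Groth.Agent.Lib.Helper25.TrivBC

open CategoryTheory

universe v₁ v₂ v₃ v₄ u₁ u₂ u₃ u₄

variable {C : Type u₁} {D : Type u₂} {E : Type u₃} {F : Type u₄}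
  [Category.{v₁} C] [Category.{v₂} D] [Category.{v₃} E] [Category.{v₄} F]
  {L₁ : C ⥤ D} {R₁ : D ⥤ C} {L₂ : E ⥤ F} {R₂ : F ⥤ E} {G : C ⥤ E} {H : D ⥤ F}
  (adj₁ : L₁ ⊣ R₁) (adj₂ : L₂ ⊣ R₂) (τ : R₁ ⋙ G ⟶ H ⋙ R₂)

/-- The component at `c` of the mate of `τ`. -/
def mateApp (c : C) : L₂.obj (G.obj c) ⟶ H.obj (L₁.obj c) :=
  (adj₂.homEquiv _ _).symm (G.map (adj₁.unit.app c) ≫ τ.app (L₁.obj c))

theorem homEquiv_mateApp (c : C) :
    adj₂.homEquiv _ _ (mateApp adj₁ adj₂ τ c) = G.map (adj₁.unit.app c) ≫ τ.app (L₁.obj c) :=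
  Equiv.apply_symm_apply _ _

theorem mateApp_eq (c : C) :
    mateApp adj₁ adj₂ τ c =
      L₂.map (G.map (adj₁.unit.app c) ≫ τ.app (L₁.obj c)) ≫ adj₂.counit.app (H.obj (L₁.obj c)) :=
  Adjunction.homEquiv_counit _ _ _ _

theorem mateApp_naturality {c c' : C} (f : c ⟶ c') :
    L₂.map (G.map f) ≫ mateApp adj₁ adj₂ τ c' = mateApp adj₁ adj₂ τ c ≫ H.map (L₁.map f) := by
  apply (adj₂.homEquiv _ _).injective
  rw [Adjunction.homEquiv_naturality_left, Adjunction.homEquiv_naturality_right,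
    homEquiv_mateApp, homEquiv_mateApp]
  have h1 : f ≫ adj₁.unit.app c' = adj₁.unit.app c ≫ R₁.map (L₁.map f) :=
    adj₁.unit.naturality f
  have h2 : G.map (R₁.map (L₁.map f)) ≫ τ.app (L₁.obj c') =
      τ.app (L₁.obj c) ≫ R₂.map (H.map (L₁.map f)) := τ.naturality (L₁.map f)
  rw [← Category.assoc, ← G.map_comp, h1, G.map_comp, Category.assoc, h2, Category.assoc]

theorem mateApp_change (adj₁' : L₁ ⊣ R₁) (adj₂' : L₂ ⊣ R₂) (c : C) :
    mateApp adj₁ adj₂ τ c =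
      (adj₂.leftAdjointUniq adj₂').hom.app (G.obj c) ≫ mateApp adj₁' adj₂' τ c ≫
        H.map ((adj₁'.leftAdjointUniq adj₁).hom.app c) := by
  rw [mateApp_eq, mateApp_eq]
  have h1 : adj₁.unit.app c =
      adj₁'.unit.app c ≫ R₁.map ((adj₁'.leftAdjointUniq adj₁).hom.app c) :=
    (Adjunction.unit_leftAdjointUniq_hom_app adj₁' adj₁ c).symm
  have h2 : adj₂.counit.app (H.obj (L₁.obj c)) =
      (adj₂.leftAdjointUniq adj₂').hom.app (R₂.obj (H.obj (L₁.obj c))) ≫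
        adj₂'.counit.app (H.obj (L₁.obj c)) :=
    (Adjunction.leftAdjointUniq_hom_app_counit adj₂ adj₂' _).symm
  have h3 : G.map (R₁.map ((adj₁'.leftAdjointUniq adj₁).hom.app c)) ≫ τ.app (L₁.obj c) =
      τ.app (L₁.obj c) ≫ R₂.map (H.map ((adj₁'.leftAdjointUniq adj₁).hom.app c)) :=
    τ.naturality _
  have h4 := (adj₂.leftAdjointUniq adj₂').hom.naturality
    (G.map (adj₁'.unit.app c) ≫ τ.app (L₁.obj c) ≫
      R₂.map (H.map ((adj₁'.leftAdjointUniq adj₁).hom.app c)))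
  have h5 := adj₂'.counit.naturality (H.map ((adj₁'.leftAdjointUniq adj₁).hom.app c))
  dsimp at h5
  rw [h1, h2, G.map_comp, Category.assoc, h3, ← Category.assoc (L₂.map _), h4, Category.assoc,
    L₂.map_comp, L₂.map_comp, L₂.map_comp]
  simp only [Category.assoc]
  erw [h5]
  rfl

theorem isIso_mateApp_iff (adj₁' : L₁ ⊣ R₁) (adj₂' : L₂ ⊣ R₂) (c : C) :
    IsIso (mateApp adj₁ adj₂ τ c) ↔ IsIso (mateApp adj₁' adj₂' τ c) := by
  rw [mateApp_change adj₁ adj₂ τ adj₁' adj₂' c]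
  constructor
  · intro h
    have h1 : IsIso (mateApp adj₁' adj₂' τ c ≫
        H.map ((adj₁'.leftAdjointUniq adj₁).hom.app c)) :=
      IsIso.of_isIso_comp_left ((adj₂.leftAdjointUniq adj₂').hom.app (G.obj c)) _
    exact IsIso.of_isIso_comp_right _ (H.map ((adj₁'.leftAdjointUniq adj₁).hom.app c))
  · intro h
    infer_instance

/-- If `mateApp` is an isomorphism at `c` it is one at every isomorphic object. -/
theorem isIso_mateApp_of_iso {c c' : C} (e : c ≅ c') (h : IsIso (mateApp adj₁ adj₂ τ c')) :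
    IsIso (mateApp adj₁ adj₂ τ c) := by
  have h1 := mateApp_naturality adj₁ adj₂ τ e.hom
  have h2 : mateApp adj₁ adj₂ τ c =
      L₂.map (G.map e.hom) ≫ mateApp adj₁ adj₂ τ c' ≫ H.map (L₁.map e.inv) := by
    rw [← Category.assoc, h1, Category.assoc, ← H.map_comp, ← L₁.map_comp, e.hom_inv_id,
      L₁.map_id, H.map_id, Category.comp_id]
  rw [h2]
  infer_instance

end Groth.Agent.Lib.Helper25.TrivBC
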