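import Groth.Agent.Lib.Helper25.KFlatBC

/-!
# `extendScalars (algebraMap R S)` versus `S ⊗[R] -`

The two tensor products differ only in the (propositionally equal) `R`-module structure on `S`.
-/

set_option autoImplicit false
universe u

namespace Groth.Agent.Lib.Helper25.TrivBC

open CategoryTheory TensorProduct ChangeOfRings
open Groth.Agent.Lib.Helper25.KFlat

variable {R S : Type u} [CommRing R] [CommRing S] [Algebra R S] (M : ModuleCat.{u} R)

/-- `s ⊗ m ↦ s ⊗ m`. -/
noncomputable def tensId : (ModuleCat.extendScalars (algebraMap R S)).obj M →+ S ⊗[R] M :=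
  TensorProduct.liftAddHom
    (AddMonoidHom.mk'
      (fun s : (ModuleCat.restrictScalars (algebraMap R S)).obj (ModuleCat.of S S) =>
        AddMonoidHom.mk' (fun m : M => (show S from s) ⊗ₜ[R] m)
          (fun m m' => TensorProduct.tmul_add _ _ _))
      (fun s s' => by
        ext m
        exact TensorProduct.add_tmul _ _ _))
    (by
      intro r s m
      have key : ∀ s' : S, ((algebraMap R S r * s') ⊗ₜ[R] m) = s' ⊗ₜ[R] (r • m) := fun s' => by
        rw [← Algebra.smul_def, TensorProduct.smul_tmul]
      exact key s)

theorem tensId_etm (s : S) (m : M) : tensId M (etm (algebraMap R S) M s m) = s ⊗ₜ[R] m := rfl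

/-- `s ⊗ m ↦ s ⊗ m`, backwards. -/
noncomputable def tensIdInv : S ⊗[R] M →+ (ModuleCat.extendScalars (algebraMap R S)).obj M :=
  TensorProduct.liftAddHom
    (AddMonoidHom.mk'
      (fun s : S => AddMonoidHom.mk' (fun m : M => etm (algebraMap R S) M s m)
          (fun m m' => etm_add _ _ _ _ _))
      (fun s s' => by
        ext m
        exact etm_add_left _ _ _ _ _))
    (by
      intro r s m
      change etm (algebraMap R S) M (r • s) m = etm (algebraMap R S) M s (r • m)
      rw [etm_smul, Algebra.smul_def])

theorem tensIdInv_tmul (s : S) (m : M) :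
    tensIdInv M (s ⊗ₜ[R] m) = etm (algebraMap R S) M s m := rfl

theorem tensIdInv_tensId (x : (ModuleCat.extendScalars (algebraMap R S)).obj M) :
    tensIdInv M (tensId M x) = x := by
  induction x using etm_induction with
  | zero => simp only [map_zero]
  | add x y hx hy => simp only [map_add, hx, hy]
  | tm' s k => rw [tensId_etm, tensIdInv_tmul]

theorem tensId_tensIdInv (x : S ⊗[R] M) : tensId M (tensIdInv M x) = x := by
  induction x using TensorProduct.induction_on with
  | zero => simp only [map_zero]
  | add x y hx hy => simp only [map_add, hx, hy]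
  | tmul s m => rw [tensIdInv_tmul, tensId_etm]

/-- The identification as an additive equivalence. -/
noncomputable def tensIdEquiv : (ModuleCat.extendScalars (algebraMap R S)).obj M ≃+ S ⊗[R] M where
  toFun := tensId M
  invFun := tensIdInv M
  left_inv := tensIdInv_tensId M
  right_inv := tensId_tensIdInv M
  map_add' := map_add _

theorem tensIdEquiv_etm (s : S) (m : M) :
    tensIdEquiv M (etm (algebraMap R S) M s m) = s ⊗ₜ[R] m := rfl

theorem tensIdEquiv_symm_tmul (s : S) (m : M) :
    (tensIdEquiv M).symm (s ⊗ₜ[R] m) = etm (algebraMap R S) M s m := rfl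

/-- naturality -/
theorem tensIdEquiv_map {M N : ModuleCat.{u} R} (f : M ⟶ N)
    (x : (ModuleCat.extendScalars (algebraMap R S)).obj M) :
    tensIdEquiv N ((ModuleCat.extendScalars (algebraMap R S)).map f x) =
      LinearMap.lTensor S f.hom (tensIdEquiv M x) := by
  induction x using etm_induction with
  | zero => simp only [map_zero]
  | add x y hx hy => simp only [map_add, hx, hy]
  | tm' s k =>
    rw [tensIdEquiv_etm, LinearMap.lTensor_tmul]
    rfl

end Groth.Agent.Lib.Helper25.TrivBC
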