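import Groth.Agent.Lib.Helper25.TrivBC.Mate
import Groth.Agent.Lib.Helper25.TrivBC.TensId
import Groth.Prelude.Def_TrivBC
import Mathlib.RingTheory.IsTensorProduct

/-!
# The module-level base change map `R' ⊗_R M ⟶ A' ⊗_A M` and pushout squares
-/

set_option autoImplicit false
universe u

namespace Groth.Agent.Lib.Helper25.TrivBC

open CategoryTheory TensorProduct ChangeOfRings
open Groth.Agent.Lib.Helper25.KFlat

section Square

variable {R A R' A' : Type u} [CommRing R] [CommRing A] [CommRing R'] [CommRing A']
  {φ : R →+* A} {ρ : R →+* R'} {α : A →+* A'} {φ' : R' →+* A'} (h : α.comp φ = φ'.comp ρ)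

/-- module-level base change map `R' ⊗_R M ⟶ A' ⊗_A M`: the mate of `resCommMod`. -/
noncomputable def bcMod (M : ModuleCat.{u} A) :
    (ModuleCat.extendScalars.{u, u, u} ρ).obj ((ModuleCat.restrictScalars.{u} φ).obj M) ⟶
      (ModuleCat.restrictScalars.{u} φ').obj ((ModuleCat.extendScalars.{u, u, u} α).obj M) :=
  mateApp (ModuleCat.extendRestrictScalarsAdj.{u, u, u} α)
    (ModuleCat.extendRestrictScalarsAdj.{u, u, u} ρ) (_root_.TrivBC.resCommMod h).hom M

theorem bcMod_naturality {M N : ModuleCat.{u} A} (f : M ⟶ N) :
    (ModuleCat.extendScalars.{u, u, u} ρ).map ((ModuleCat.restrictScalars.{u} φ).map f) ≫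
        bcMod h N =
      bcMod h M ≫ (ModuleCat.restrictScalars.{u} φ').map
        ((ModuleCat.extendScalars.{u, u, u} α).map f) :=
  mateApp_naturality _ _ _ f

theorem homEquiv_bcMod (M : ModuleCat.{u} A) :
    (ModuleCat.extendRestrictScalarsAdj.{u, u, u} ρ).homEquiv _ _ (bcMod h M) =
      (ModuleCat.restrictScalars.{u} φ).map
        ((ModuleCat.extendRestrictScalarsAdj.{u, u, u} α).unit.app M) ≫
        (_root_.TrivBC.resCommMod h).hom.app ((ModuleCat.extendScalars.{u, u, u} α).obj M) :=
  homEquiv_mateApp _ _ _ M

theorem bcMod_one (M : ModuleCat.{u} A) (m : M) :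
    bcMod h M (etm ρ ((ModuleCat.restrictScalars.{u} φ).obj M) 1 m) = etm α M 1 m := by
  have h1 := ModuleCat.extendRestrictScalarsAdj_homEquiv_apply (f := ρ) (bcMod h M) m
  rw [homEquiv_bcMod] at h1
  exact h1.symm

theorem bcMod_etm (M : ModuleCat.{u} A) (r' : R') (m : M) :
    bcMod h M (etm ρ ((ModuleCat.restrictScalars.{u} φ).obj M) r' m) = etm α M (φ' r') m := by
  have h1 : etm ρ ((ModuleCat.restrictScalars.{u} φ).obj M) r' m =
      r' • etm ρ ((ModuleCat.restrictScalars.{u} φ).obj M) 1 m := by
    rw [smul_etm, mul_one]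
  rw [h1, map_smul, bcMod_one]
  change φ' r' • etm α M 1 m = _
  rw [smul_etm, mul_one]

end Square

section Pushout

variable {R A R' A' : Type u} [CommRing R] [CommRing A] [CommRing R'] [CommRing A']
  [Algebra R A] [Algebra R R'] [Algebra A A'] [Algebra R' A'] [Algebra R A']
  [IsScalarTower R A A'] [IsScalarTower R R' A'] [Algebra.IsPushout R A R' A']
  (h : (algebraMap A A').comp (algebraMap R A) = (algebraMap R' A').comp (algebraMap R R'))

/-- For a pushout square the module-level base change map is bijective. -/
theorem bcMod_bijective (M : ModuleCat.{u} A) : Function.Bijective (bcMod h M) := by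
  letI : Module A ((ModuleCat.restrictScalars.{u} (algebraMap R A)).obj M) :=
    inferInstanceAs (Module A M)
  haveI : IsScalarTower R A ((ModuleCat.restrictScalars.{u} (algebraMap R A)).obj M) :=
    ⟨fun r a x => by
      change (r • a) • (show M from x) = algebraMap R A r • (a • (show M from x))
      rw [Algebra.smul_def, mul_smul]⟩
  haveI : Algebra.IsPushout R R' A A' := Algebra.IsPushout.symm inferInstance
  let e : (ModuleCat.extendScalars.{u, u, u} (algebraMap R R')).obj
      ((ModuleCat.restrictScalars.{u} (algebraMap R A)).obj M) ≃+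
      (ModuleCat.extendScalars.{u, u, u} (algebraMap A A')).obj M :=
    (tensIdEquiv (S := R') ((ModuleCat.restrictScalars.{u} (algebraMap R A)).obj M)).trans
      (((Algebra.IsPushout.cancelBaseChange R R' A A'
        ((ModuleCat.restrictScalars.{u} (algebraMap R A)).obj M)).symm.toAddEquiv).trans
        (tensIdEquiv (S := A') M).symm)
  have he : ∀ x, bcMod h M x = e x := by
    intro x
    induction x using etm_induction with
    | zero => simp only [map_zero]; rfl
    | add x y hx hy => simp only [map_add, hx, hy]; rfl
    | tm' s k =>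
      rw [bcMod_etm]
      change _ = (tensIdEquiv (S := A') M).symm
        ((Algebra.IsPushout.cancelBaseChange R R' A A'
          ((ModuleCat.restrictScalars.{u} (algebraMap R A)).obj M)).symm
          (tensIdEquiv (S := R') ((ModuleCat.restrictScalars.{u} (algebraMap R A)).obj M)
            (etm (algebraMap R R') _ s k)))
      rw [tensIdEquiv_etm, Algebra.IsPushout.cancelBaseChange_symm_tmul]
      rfl
  have : (fun x => bcMod h M x) = fun x => e x := funext he
  exact (show Function.Bijective (fun x => bcMod h M x) by rw [this]; exact e.bijective)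

end Pushout

end Groth.Agent.Lib.Helper25.TrivBC
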