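import Groth.Agent.Lib.Helper25.QisElem2

/-!
# Transfer of quasi-isomorphisms along degreewise additive bijections
-/

set_option autoImplicit false
universe u

namespace Groth.Agent.Lib.Helper25.TrivBC

open CategoryTheory CategoryTheory.Limits HomologicalComplex CochainComplex
open Groth.Agent.Lib.Helper25.TensorCx Groth.Agent.Lib.Helper25.KFlat
open Groth.Agent.Lib.Helper25.QisElem

variable {R R' : Type u} [CommRing R] [CommRing R']

theorem quasiIso_of_addEquiv {X Y : Cx R} {X' Y' : Cx R'} (g : X ⟶ Y) (g' : X' ⟶ Y')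
    (a : ∀ n, X.X n ≃+ X'.X n) (b : ∀ n, Y.X n ≃+ Y'.X n)
    (had : ∀ n m (x : X.X n), a m (X.d n m x) = X'.d n m (a n x))
    (hbd : ∀ n m (y : Y.X n), b m (Y.d n m y) = Y'.d n m (b n y))
    (hg : ∀ n (x : X.X n), b n (g.f n x) = g'.f n (a n x)) (h : QuasiIso g) :
    QuasiIso g' := by
  apply quasiIso_of_elementwise
  · intro n m k hnm hmk x' hx' y' hy'
    obtain ⟨x, rfl⟩ := (a m).surjective x'
    obtain ⟨y, rfl⟩ := (b n).surjective y'
    have hx : X.d m k x = 0 := by
      apply (a k).injective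
      rw [had, hx', map_zero]
    have hy : g.f m x = Y.d n m y := by
      apply (b m).injective
      rw [hg, hy', hbd]
    obtain ⟨w, hw⟩ := inj_of_quasiIso g n m k hnm hmk x hx y hy
    exact ⟨a n w, by rw [← had, hw]⟩
  · intro n m k hnm hmk y' hy'
    obtain ⟨y, rfl⟩ := (b m).surjective y'
    have hy : Y.d m k y = 0 := by
      apply (b k).injective
      rw [hbd, hy', map_zero]
    obtain ⟨x, w, hx, hw⟩ := surj_of_quasiIso g n m k hnm hmk y hy
    refine ⟨a m x, b n w, ?_, ?_⟩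
    · rw [← had, hx, map_zero]
    · rw [← hg, ← map_sub, hw, hbd]

theorem quasiIso_iff_of_addEquiv {X Y : Cx R} {X' Y' : Cx R'} (g : X ⟶ Y) (g' : X' ⟶ Y')
    (a : ∀ n, X.X n ≃+ X'.X n) (b : ∀ n, Y.X n ≃+ Y'.X n)
    (had : ∀ n m (x : X.X n), a m (X.d n m x) = X'.d n m (a n x))
    (hbd : ∀ n m (y : Y.X n), b m (Y.d n m y) = Y'.d n m (b n y))
    (hg : ∀ n (x : X.X n), b n (g.f n x) = g'.f n (a n x)) :
    QuasiIso g ↔ QuasiIso g' := by
  refine ⟨quasiIso_of_addEquiv g g' a b had hbd hg, ?_⟩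
  refine quasiIso_of_addEquiv g' g (fun n => (a n).symm) (fun n => (b n).symm) ?_ ?_ ?_
  · intro n m x'
    apply (a m).injective
    rw [AddEquiv.apply_symm_apply, had, AddEquiv.apply_symm_apply]
  · intro n m y'
    apply (b m).injective
    rw [AddEquiv.apply_symm_apply, hbd, AddEquiv.apply_symm_apply]
  · intro n x'
    apply (b n).injective
    rw [AddEquiv.apply_symm_apply, hg, AddEquiv.apply_symm_apply]

end Groth.Agent.Lib.Helper25.TrivBC
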